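import Cfsg.Agent.ChevAlt.Torus
import Cfsg.Prelude.Def_ChevF4

/-!
Exponent checks for torus elements of F₄ of order 11 and 35 (owner: helper70).
-/

set_option autoImplicit false

namespace Cfsg.Agent.ChevAlt

open Cfsg.Lie

/-- Vectors of length four modulo `s` with first non-zero entry one. -/
def norms (s : ℕ) : List (List ℕ) :=
  ((List.range s).flatMap fun a => (List.range s).flatMap fun b => (List.range s).map fun c => [1, a, b, c]) ++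
  ((List.range s).flatMap fun b => (List.range s).map fun c => [0, 1, b, c]) ++
  ((List.range s).map fun c => [0, 0, 1, c]) ++ [[0, 0, 0, 1]]

/-- The Cartan integers of F₄ modulo 5. -/
def tab5 : List (List ℕ) := [[0, 0, 0, 4], [0, 0, 4, 1], [0, 3, 1, 0], [4, 0, 0, 0], [3, 2, 4, 0], [3, 0, 1, 4], [3, 0, 0, 1], [1, 4, 0, 0],  [0, 1, 4, 0], [0, 4, 1, 4], [0, 4, 0, 1], [4, 1, 0, 4], [4, 1, 4, 1], [4, 4, 1, 0], [3, 1, 0, 0], [2, 0, 4, 0],  [2, 3, 1, 4], [2, 3, 0, 1], [1, 0, 0, 4], [1, 0, 4, 1], [1, 3, 1, 0], [0, 2, 4, 4], [0, 2, 3, 1], [0, 0, 1, 3],  [0, 0, 4, 2], [0, 3, 2, 4], [0, 3, 1, 1], [4, 2, 4, 0], [4, 0, 1, 4], [4, 0, 0, 1], [3, 2, 0, 4], [3, 2, 4, 1],  [3, 0, 1, 0], [2, 4, 0, 0], [1, 1, 4, 0], [1, 4, 1, 4], [1, 4, 0, 1], [0, 1, 0, 4], [0, 1, 4, 1], [0, 4, 1, 0],  [4, 1, 0, 0], [2, 0, 0, 4], [2, 0, 4, 1], [2, 3,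 1, 0], [1, 0, 0, 0], [0, 2, 4, 0], [0, 0, 1, 4], [0, 0, 0, 1]]

theorem tab5_eq : tab5 = rootTab chevF4 5 := by decide +kernel

/-- The Cartan integers of F₄ modulo 7. -/
def tab7 : List (List ℕ) := [[0, 0, 0, 6], [0, 0, 6, 1], [0, 5, 1, 0], [6, 0, 0, 0], [5, 2, 6, 0], [5, 0, 1, 6], [5, 0, 0, 1], [1, 6, 0, 0],  [0, 1, 6, 0], [0, 6, 1, 6], [0, 6, 0, 1], [6, 1, 0, 6], [6, 1, 6, 1], [6, 6, 1, 0], [5, 1, 0, 0], [2, 0, 6, 0],  [2, 5, 1, 6], [2, 5, 0, 1], [1, 0, 0, 6], [1, 0, 6, 1], [1, 5, 1, 0], [0, 2, 6, 6], [0, 2, 5, 1], [0, 0, 1, 5],  [0, 0, 6, 2], [0, 5, 2, 6], [0, 5, 1, 1], [6, 2, 6, 0], [6, 0, 1, 6], [6, 0, 0, 1], [5, 2, 0, 6], [5, 2, 6, 1],  [5, 0, 1, 0], [2, 6, 0, 0], [1, 1, 6, 0], [1, 6, 1, 6], [1, 6, 0, 1], [0, 1, 0, 6], [0, 1, 6, 1], [0, 6, 1, 0],  [6, 1, 0, 0], [2, 0, 0, 6], [2, 0, 6, 1], [2, 5, 1, 0], [1, 0, 0,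 0], [0, 2, 6, 0], [0, 0, 1, 6], [0, 0, 0, 1]]

theorem tab7_eq : tab7 = rootTab chevF4 7 := by decide +kernel

/-- The Cartan integers of F₄ modulo 11. -/
def tab11 : List (List ℕ) := [[0, 0, 0, 10], [0, 0, 10, 1], [0, 9, 1, 0], [10, 0, 0, 0], [9, 2, 10, 0], [9, 0, 1, 10], [9, 0, 0, 1], [1, 10, 0, 0],  [0, 1, 10, 0], [0, 10, 1, 10], [0, 10, 0, 1], [10, 1, 0, 10], [10, 1, 10, 1], [10, 10, 1, 0], [9, 1, 0, 0],  [2, 0, 10, 0], [2, 9, 1, 10], [2, 9, 0, 1], [1, 0, 0, 10], [1, 0, 10, 1], [1, 9, 1, 0], [0, 2, 10, 10], [0, 2, 9, 1],  [0, 0, 1, 9], [0, 0, 10, 2], [0, 9, 2, 10], [0, 9, 1, 1], [10, 2, 10, 0], [10, 0, 1, 10], [10, 0, 0, 1],  [9, 2, 0, 10], [9, 2, 10, 1], [9, 0, 1, 0], [2, 10, 0, 0], [1, 1, 10, 0], [1, 10, 1, 10], [1, 10, 0, 1],  [0, 1, 0, 10], [0, 1, 10, 1], [0, 10, 1, 0], [10, 1, 0, 0], [2, 0, 0, 10], [2, 0, 10,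 1], [2, 9, 1, 0], [1, 0, 0, 0],  [0, 2, 10, 0], [0, 0, 1, 10], [0, 0, 0, 1]]

theorem tab11_eq : tab11 = rootTab chevF4 11 := by decide +kernel

/-- The Cartan integers of F₄ modulo 35. -/
def tab35 : List (List ℕ) := [[0, 0, 0, 34], [0, 0, 34, 1], [0, 33, 1, 0], [34, 0, 0, 0], [33, 2, 34, 0], [33, 0, 1, 34], [33, 0, 0, 1],  [1, 34, 0, 0], [0, 1, 34, 0], [0, 34, 1, 34], [0, 34, 0, 1], [34, 1, 0, 34], [34, 1, 34, 1], [34, 34, 1, 0],  [33, 1, 0, 0], [2, 0, 34, 0], [2, 33, 1, 34], [2, 33, 0, 1], [1, 0, 0, 34], [1, 0, 34, 1], [1, 33, 1, 0],  [0, 2, 34, 34], [0, 2, 33, 1], [0, 0, 1, 33], [0, 0, 34, 2], [0, 33, 2, 34], [0, 33, 1, 1], [34, 2, 34, 0],  [34, 0, 1, 34], [34, 0, 0, 1], [33, 2, 0, 34], [33, 2, 34, 1], [33, 0, 1, 0], [2, 34, 0, 0], [1, 1, 34, 0],  [1, 34, 1, 34], [1, 34, 0, 1], [0, 1, 0, 34], [0, 1, 34, 1], [0, 34,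 1, 0], [34, 1, 0, 0], [2, 0, 0, 34],  [2, 0, 34, 1], [2, 33, 1, 0], [1, 0, 0, 0], [0, 2, 34, 0], [0, 0, 1, 34], [0, 0, 0, 1]]

theorem tab35_eq : tab35 = rootTab chevF4 35 := by decide +kernel

/-- The combination modulo 35 of vectors modulo 5 and 7. -/
def comb35 (u v : List ℕ) : List ℕ := List.zipWith (fun a b => (7 * a + 5 * b) % 35) u v

theorem check11 : (norms 11).all (fun w => !invB tab11 11 3 w) = true := by decide +kernel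

theorem check35 : ((norms 5).filter (invB tab5 5 2)).all (fun u =>
    ((norms 7).filter (invB tab7 7 3)).all fun v => !invB tab35 35 17 (comb35 u v)) = true := by
  decide +kernel

end Cfsg.Agent.ChevAlt
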